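import Cfsg.Agent.DZ3.Cyc
import Cfsg.Agent.R2.DZ.Iface
import Cfsg.Agent.OddCyclic.ClaimC.SzIso
import Cfsg.Agent.S0331
import Cfsg.Agent.S1156

/-!
# S4527: the rows of the Suzuki groups and of the small Ree groups (helper12)

The Sylow `p`-subgroups are cyclic for `p ≥ 5`.
-/

set_option autoImplicit false

open Cfsg

namespace Cfsg.Agent.DZ3

open Cfsg.Agent.H665.NoPQ Cfsg.Agent.R2.DZ

universe u v

/-- cyclic Sylow subgroups in a model of the group -/
theorem of_cyclic_model {p : ℕ} [hp : Fact p.Prime] {G : Type u} [Group G] [Finite G] [IsSimpleGroup G]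
    (hna : ¬ IsMulCommutative G) {M : Type v} [Group M] (e : G ≃* M) (h : ∀ P : Sylow p M, IsCyclic P) :
    HasDZ p G := by
  have : Finite M := Finite.of_equiv G e.toEquiv
  have : IsSimpleGroup M := e.symm.isSimpleGroup
  refine R2.DZ.congr e.symm (DZ3.of_cyclic (fun hc => hna ⟨⟨fun a b => e.injective ?_⟩⟩) (Classical.arbitrary _) (h _))
  rw [map_mul, map_mul]
  exact hc.is_comm.comm _ _

/-- **`Sz(q)`** -/
theorem sz : Row.{u} @Lie.IsoSuzuki := by
  rintro G _ _ _ hna ⟨F, _, _, m, hm, hF, ⟨e⟩⟩ p hp h5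
  have := Fact.mk hp
  obtain ⟨e'⟩ := Cfsg.Agent.OddCyclic.ClaimC.SzIso.iso hm hF
  exact of_cyclic_model hna (e.trans e'.symm) fun P => S0331.result hm hF (by omega) P

/-- **`²G₂(q)`** -/
theorem ree : Row.{u} @Lie.IsoRee := by
  rintro G _ _ _ hna ⟨F, _, _, m, hm, hF, ⟨e⟩⟩ p hp h5
  have := Fact.mk hp
  exact of_cyclic_model hna e fun P => S1156.result hm hF (by omega) P

end Cfsg.Agent.DZ3
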